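import Mathlib
import Cfsg.Agent.W42.Wc
import Cfsg.Agent.W42.Facts
import Cfsg.Agent.AltC.Label

/-! The two types of involutions of `D₈ ≀ 2` viewed inside `A₁₀`. -/

set_option autoImplicit false
set_option synthInstance.maxSize 8000

namespace Cfsg.Agent.LyS

open Subgroup Cfsg.Agent.SylT Cfsg.Agent.W42 Equiv
open AltC (D8 xx zz)

/-- involutions with two 2-cycles -/
def t2 (x : K) : Prop := Nat.testBit 0x50003f536 x.v = true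
/-- involutions with four 2-cycles -/
def t4 (x : K) : Prop := Nat.testBit 0x6009000000009009000f00fa0f0c0ac8 x.v = true

instance instDec2 (x : K) : Decidable (t2 x) := inferInstanceAs (Decidable (_ = true))
instance instDec4 (x : K) : Decidable (t4 x) := inferInstanceAs (Decidable (_ = true))

/-- the other normal elementary abelian subgroup of order 16 -/
abbrev kA : Subgroup K := kE 0 0

/-- the five points -/
abbrev P5 : Type := AltC.Pt (Fin 2)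

/-- base elements of `B` -/
def kb : P5 → K
  | none => 1
  | some (i, false) => ![u1, u2] i
  | some (i, true) => ![u1, u2] i * ![z1, z2] i

/-- the five involutions of the second type in `B` -/
def kq (p : P5) : K := kz * kb p

/-- names of the points -/
abbrev p1 : P5 := some (0, false)
abbrev p2 : P5 := some (0, true)
abbrev p3 : P5 := some (1, false)
abbrev p4 : P5 := some (1, true)

theorem t24 : ∀ x : K, x * x = 1 → x ≠ 1 → t2 x ∨ t4 x := by decide +kernel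
theorem t2_sq : ∀ x, t2 x → x * x = 1 ∧ x ≠ 1 ∧ ¬ t4 x := by decide +kernel
theorem t4_sq : ∀ x, t4 x → x * x = 1 ∧ x ≠ 1 := by decide +kernel
theorem ty : t2 z1 ∧ t2 z2 ∧ t2 u1 ∧ t2 u2 ∧ t2 v1 ∧ t2 v2 ∧ t4 kz ∧ t4 kt := by decide +kernel
theorem ty' : t2 (v1 * z1) ∧ t4 (z2 * z1) ∧ t2 (u1 * z1) ∧ t2 (u1 * u2) ∧ t4 (u1 * z2) := by
  decide +kernel
theorem zz12 : z1 * z2 = kz := by decide +kernel
theorem q_mem : ∀ p, kq p ∈ kB ∧ t4 (kq p) := by decide +kernel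
theorem q_surj : ∀ x ∈ kB, t4 x → ∃ p, x = kq p := by decide +kernel
theorem q_inj : ∀ p q, kq p = kq q → p = q := by decide +kernel
theorem q_gen : ∀ x ∈ kB, (∃ p, x = kq p) ∨ ∃ p q, x = kq p * kq q := by decide +kernel
theorem q_mul : ∀ p q, kq p * kq q = kb p * kb q := by decide +kernel
theorem q_val : kq none = kz ∧ kq p2 = u1 * z2 ∧ kq p1 * kq p2 = z1 ∧ kq p3 * kq p4 = z2 ∧
    kq p3 * kq none = u2 ∧ kq p1 * kq none = u1 ∧ kq p1 * kq p3 = u1 * u2 ∧ kq p2 * kq p1 = z1 := by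
  decide +kernel
theorem q_pair : ∀ p q r s, p ≠ q → kq p * kq q = kq r * kq s → p = r ∧ q = s ∨ p = s ∧ q = r := by
  decide +kernel
theorem act_v1 : ∀ p, v1 * kq p * v1⁻¹ = kq (swap p1 p2 p) := by decide +kernel
theorem act_v2 : ∀ p, v2 * kq p * v2⁻¹ = kq (swap p3 p4 p) := by decide +kernel
theorem act_t : ∀ p, kt * kq p * kt⁻¹ = kq ((swap p1 p3 * swap p2 p4 : Perm P5) p) := by
  decide +kernel
theorem mem_AB : z1 ∈ kA ∧ z2 ∈ kA ∧ v1 ∈ kA ∧ v2 ∈ kA ∧ z1 ∈ kB ∧ z2 ∈ kB ∧ u1 ∈ kB ∧ u2 ∈ kB ∧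
    kz ∈ kA ∧ kz ∈ kB ∧ v1 ∉ kB := by decide +kernel
theorem mem_S' : z2 ∈ kS ∧ v1 ∈ kS ∧ v2 ∈ kS ∧ u1 ∈ kS ∧ u2 ∈ kS := by decide +kernel

theorem kap_fact : ∀ b ∈ kS, t2 b → b ∉ kB → t2 (b * z1) → ∀ c ∈ kB, t2 c → t4 (c * z1) → c ≠ z2 →
    ∀ a ∈ kB, t2 (a * z1) → t2 (a * z2) → t4 (a * c) → t2 a → ∃ k, k * z1 * k⁻¹ = z1 ∧ k * z2 * k⁻¹ = z2 ∧
      k * b * k⁻¹ = v1 ∧ k * c * k⁻¹ = u2 ∧ k * a * k⁻¹ = u1 * u2 * z2 := by decide +kernel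

theorem sig_fact : ∀ c ∈ kA, t2 c → t4 (c * z1) → c ≠ z2 → ∀ b ∈ kA, t2 b → t2 (b * z1) →
    ∀ a ∈ kS, t2 a → a * c = c * a → a * b ≠ b * a → ∃ k, k * z1 * k⁻¹ = z1 ∧ k * z2 * k⁻¹ = z2 ∧
      k * b * k⁻¹ = v1 ∧ k * c * k⁻¹ = v2 ∧ k * a * k⁻¹ = u1 := by decide +kernel

theorem split_z : ∀ a ∈ kA, t2 a → ∀ b ∈ kA, t2 b → a * b = kz →
    ∃ k, k * a * k⁻¹ = z1 ∧ k * b * k⁻¹ = z2 := by decide +kernel

theorem cls2 : ∀ x, t2 x → ∃ k, k * x * k⁻¹ = z1 ∨ k * x * k⁻¹ = v2 ∨ k * x * k⁻¹ = u2 ∨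
    k * x * k⁻¹ = u1 * u2 * z2 := by decide +kernel
theorem cls4 : ∀ x, t4 x → x ∈ kS → ∃ k, k * x * k⁻¹ = kz ∨ k * x * k⁻¹ = z1 * v2 ∨
    k * x * k⁻¹ = z1 * u2 ∨ k * x * k⁻¹ = v1 * v2 ∨ k * x * k⁻¹ = u1 * v2 := by decide +kernel
theorem cls4' : ∀ x, t4 x → x ∉ kS → ∃ k, k * x * k⁻¹ = kt := by decide +kernel
theorem clsA : ∀ x ∈ kA, x ≠ 1 → ∃ k, k * x * k⁻¹ = z1 ∨ k * x * k⁻¹ = v2 ∨ k * x * k⁻¹ = kz ∨
    k * x * k⁻¹ = z1 * v2 ∨ k * x * k⁻¹ = v1 * v2 := by decide +kernel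
theorem t_act : kt * z1 * kt⁻¹ = z2 ∧ kt * z2 * kt⁻¹ = z1 ∧ kt * u1 * kt⁻¹ = u2 ∧ kt * u2 * kt⁻¹ = u1 ∧
    kt * v1 * kt⁻¹ = v2 ∧ kt * v2 * kt⁻¹ = v1 ∧ kt * (v1 * z2) * kt⁻¹ = z1 * v2 ∧
    kt * (u1 * z2) * kt⁻¹ = z1 * u2 ∧ kt * (u1 * u2) * kt⁻¹ = u1 * u2 := by decide +kernel

theorem scB : ∀ x ∈ kB, ∀ y, y ∉ kB → (x = 1 → y = 1) → (t2 x ↔ t2 y) → (t4 x ↔ t4 y) →
    (t2 (x * kz) ↔ t2 (y * kz)) → (t4 (x * kz) ↔ t4 (y * kz)) →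
    y ∈ kA ∧ (t2 y ∧ t4 (y * kz) ∨ t4 y ∧ t2 (y * kz)) := by decide +kernel
theorem AB_ty : ∀ y ∈ kA, y ∈ kB → ¬ (t2 y ∧ t4 (y * kz) ∨ t4 y ∧ t2 (y * kz)) ∧
    ¬ (t2 y ∧ t2 (y * z1)) := by decide +kernel
theorem iso_v : ∀ x ∈ kS, t2 x → t2 (x * z1) → x ∈ kB ∨ x = v1 ∨ x = v1 * z1 := by decide +kernel
theorem over_B : ∀ x ∉ kB, ∃ k : K, ∃ b ∈ kB, x * b = v1 * v2 ∨ k * x * k⁻¹ * x⁻¹ * b = v1 * v2 := by
  decide +kernel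

/-- the factors -/
def ed (u v : K) : D8 → K
  | .r i => (u * v) ^ i.val
  | .sr i => u * (u * v) ^ i.val

/-- the base group -/
def χ : D8 × D8 →* K := MonoidHom.mk' (fun p => ed u1 v1 p.1 * ed u2 v2 p.2) (by decide +kernel)

theorem χ_inj : Function.Injective χ := (injective_iff_map_eq_one χ).2 (by decide +kernel)
theorem χ_mem : ∀ p, χ p ∈ kS := by decide +kernel
theorem χ_surj : ∀ x ∈ kS, ∃ p, χ p = x := by decide +kernel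
theorem χ_val : χ (zz, 1) = z1 ∧ χ (xx true, 1) = v1 ∧ χ (xx false, 1) = u1 ∧
    χ (1, zz) = z2 ∧ χ (1, xx true) = v2 ∧ χ (1, xx false) = u2 := by decide +kernel

theorem χ_range : χ.range = kS := le_antisymm (by rintro _ ⟨p, rfl⟩; exact χ_mem p) χ_surj

end Cfsg.Agent.LyS
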