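import Mathlib
import Cfsg.Agent.LyS.KF

/-! Groups with a Sylow 2-subgroup `D₈ ≀ 2` and the involution fusion pattern of `A₁₀`. -/

set_option autoImplicit false
set_option linter.unusedSectionVars false

namespace Cfsg.Agent.LyS

open Subgroup Cfsg Cfsg.Agent.PLocal.Amb Cfsg.Agent.Gold Cfsg.Agent.BF Cfsg.Agent.W42 Equiv

variable {G : Type*} [Group G] [Finite G] {ι : K →* G} {g σ κ : G} {x y : K} {H M : Subgroup G}
  {π ρ : Perm P5}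

/-- the fusion pattern -/
structure AF (ι : K →* G) : Prop extends MS ι ⊤ where
  sep : ∀ g x y, Cj ι g x y → t2 x → t2 y
  fd : Fu ι (u1 * z2) kz
  fc : Fu ι (z1 * v2) kz

theorem _root_.Cfsg.Agent.BF.Cj.cg {K : Type} [Group K] {ι : K →* G} {x y x' y' : K} (e : Cj ι g x y)
    (h1 : x = x') (h2 : y = y') : Cj ι g x' y' := h1 ▸ h2 ▸ e

theorem AF.s2 (d : AF ι) (e : Cj ι g x y) : t2 x ↔ t2 y := ⟨d.sep _ _ _ e, d.sep _ _ _ e.symm⟩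

theorem AF.s4 (d : AF ι) (e : Cj ι g x y) : t4 x ↔ t4 y := by
  have key : ∀ {g x y}, Cj ι g x y → t4 x → t4 y := fun e h =>
    (t24 _ ((e.sq d.inj).1 (t4_sq _ h).1) (e.ne_one d.inj (t4_sq _ h).2)).resolve_left
      fun r => (t2_sq _ ((d.s2 e).2 r)).2.2 h
  exact ⟨key e, key e.symm⟩

/-- the permutation of the five points induced by `g` -/
def Pm (ι : K →* G) (g : G) (π : Perm P5) : Prop := ∀ p, Cj ι g (kq p) (kq (π p))

theorem Pm.mul {h : G} (a : Pm ι g π) (b : Pm ι h ρ) : Pm ι (g * h) (π * ρ) :=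
  fun p => (b p).trans (a _)

theorem Pm.inv (a : Pm ι g π) : Pm ι g⁻¹ π⁻¹ := fun p => by
  have := (a (π⁻¹ p)).symm
  rwa [Perm.coe_inv, apply_symm_apply] at this

theorem Pm.e (a : Pm ι g π) (p q : P5) : Cj ι g (kq p * kq q) (kq (π p) * kq (π q)) := (a p).mul (a q)

theorem Pm.norm (a : Pm ι g π) : g ∈ 𝐍[kB.map ι] :=
  mem_normalizer_of_cj_le (cj_map_le fun x hx => by
    rcases q_gen x hx with ⟨p, rfl⟩ | ⟨p, q, rfl⟩
    exacts [⟨_, (q_mem _).1, a p⟩, ⟨_, mul_mem (q_mem _).1 (q_mem _).1, a.e p q⟩])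

theorem Pm.cent (a : Pm ι g 1) (hx : x ∈ kB) : Cj ι g x x := by
  rcases q_gen x hx with ⟨p, rfl⟩ | ⟨p, q, rfl⟩
  exacts [a p, a.e p q]

theorem Pm.conj {h : G} {p q : P5} (a : Pm ι h π) (b : Pm ι g (swap p q)) :
    Pm ι (h * g * h⁻¹) (swap (π p) (π q)) := by
  rw [swap_apply_apply]; exact (a.mul b).mul a.inv

theorem Pm.uniq (i : Function.Injective ι) (a : Pm ι g π) (b : Pm ι g ρ) : π = ρ :=
  Equiv.ext fun p => q_inj _ _ (((a p).eq_iff i (b p)).1 rfl)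

theorem pm_v1 : Pm ι (ι v1) (swap p1 p2) := fun p => Cj.of' (act_v1 p)
theorem pm_v2 : Pm ι (ι v2) (swap p3 p4) := fun p => Cj.of' (act_v2 p)
theorem pm_t : Pm ι (ι kt) (swap p1 p3 * swap p2 p4) := fun p => Cj.of' (act_t p)

theorem exists_pm' (i : Function.Injective ι) (h : g ∈ 𝐍[kB.map ι])
    (hs : ∀ x y, Cj ι g x y → t4 x → t4 y) : ∃ π, Pm ι g π := by
  have : ∀ p, ∃ q, Cj ι g (kq p) (kq q) := fun p => by
    obtain ⟨y, hy, e⟩ := exists_cj_of_norm h (q_mem p).1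
    obtain ⟨q, rfl⟩ := q_surj y hy (hs _ _ e (q_mem p).2)
    exact ⟨q, e⟩
  choose f hf using this
  exact ⟨Equiv.ofBijective f (Finite.injective_iff_bijective.1 fun p q e =>
    q_inj _ _ (((hf p).eq_iff i (hf q)).2 (by rw [e]))), hf⟩

theorem AF.exists_pm (d : AF ι) (h : g ∈ 𝐍[kB.map ι]) : ∃ π, Pm ι g π :=
  exists_pm' d.inj h fun _ _ e => (d.s4 e).1

theorem pm_all (hM : ι.range ≤ M) (hg : g ∈ M) {r : P5} (hr : r ≠ none) (a : Pm ι g (swap r none))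
    (π : Perm P5) : ∃ m ∈ M, Pm ι m π := by
  let P : Subgroup (Perm P5) :=
    { carrier := {π | ∃ m ∈ M, Pm ι m π}
      one_mem' := ⟨1, one_mem M, fun _ => Cj.refl _⟩
      mul_mem' := by rintro _ _ ⟨m, hm, a⟩ ⟨n, hn, b⟩; exact ⟨_, mul_mem hm hn, a.mul b⟩
      inv_mem' := by rintro _ ⟨m, hm, a⟩; exact ⟨_, inv_mem hm, a.inv⟩ }
  have h1 : swap p1 p2 ∈ P := ⟨_, hM ⟨_, rfl⟩, pm_v1⟩
  have h2 : swap p3 p4 ∈ P := ⟨_, hM ⟨_, rfl⟩, pm_v2⟩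
  have h3 : swap p1 p3 * swap p2 p4 ∈ P := ⟨_, hM ⟨_, rfl⟩, pm_t⟩
  have h4 : swap r none ∈ P := ⟨g, hg, a⟩
  have tr := fun a b c => SubmonoidClass.swap_mem_trans (a := a) (b := b) (c := c) P
  have cj : ∀ i, swap i none ∈ P → swap ((swap p1 p3 * swap p2 p4 : Perm P5) i) none ∈ P := fun i h => by
    have := mul_mem (mul_mem h3 h) (inv_mem h3)
    rwa [← swap_apply_apply] at this
  have cs : ∀ r : P5, r = none ∨ r = p1 ∨ r = p2 ∨ r = p3 ∨ r = p4 := by decide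
  have h5 : swap p1 none ∈ P := by
    rcases cs r with rfl | rfl | rfl | rfl | rfl
    exacts [absurd rfl hr, h4, tr _ _ _ h1 h4, cj p3 h4, cj p3 (tr _ _ _ h2 h4)]
  have h6 : ∀ r, swap r none ∈ P := fun r => by
    rcases cs r with rfl | rfl | rfl | rfl | rfl
    exacts [swap_self (none : P5) ▸ one_mem P, h5, tr _ _ _ (swap_comm p1 p2 ▸ h1) h5, cj p1 h5,
      tr _ _ _ (swap_comm p3 p4 ▸ h2) (cj p1 h5)]
  change π ∈ P
  induction π using Perm.swap_induction_on with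
  | one => exact one_mem P
  | swap_mul f a b _ ih => exact mul_mem (tr _ _ _ (h6 a) (swap_comm b none ▸ h6 b)) ih

theorem AF.all (d : AF ι) (π : Perm P5) : ∃ g, Pm ι g π := by
  obtain ⟨n, hn, e⟩ := ctlB d.toMS (q_val.2.1 ▸ (q_mem p2).1) mem_AB.2.2.2.2.2.2.2.2.2.1 d.fd
  obtain ⟨ρ, a⟩ := d.exists_pm hn
  have h : ρ p2 = none := q_inj _ _ (((a p2).eq_iff d.inj (e.cg q_val.2.1.symm q_val.1.symm)).1 rfl)
  have := a.conj pm_v1
  rw [h] at this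
  obtain ⟨m, -, b⟩ := pm_all le_top (mem_top _) (fun r => by
    simpa using ρ.injective (r.trans h.symm)) this π
  exact ⟨m, b⟩

/-- extremal conjugation onto `z2` inside the centralizer of `z1` -/
theorem extr2 (d : MS ι ⊤) (e1 : Cj ι g z1 z1) (e : Cj ι g y z2) :
    ∃ n, Cj ι n z1 z1 ∧ Cj ι n y z2 ∧ ∀ x ∈ kS, x * y = y * x → ∃ x' ∈ kS, Cj ι n x x' := by
  have k : cj(g, (kS ⊓ 𝐜[y]).map ι) ≤ 𝐜[ι z1] ⊓ 𝐜[ι z2] := le_inf (by
      rw [← e1.cent]; exact cj_mono g (map_le_c fun r hr => (cent_z1 r).2 hr.1)) (by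
      rw [← e.cent]; exact cj_mono g (map_le_c fun r hr => mem_centralizer_singleton_iff.1 hr.2))
  obtain ⟨c, hc, k1⟩ := ((sylS d).mono (le_inf (sylS d).le (map_le_c fun u hu => (cent_z2 u).2 hu))
    inf_le_left).exists_cj_le (isPGroup_cj g (d.pg _)) k
  rw [← cj_mul] at k1
  exact ⟨c * g, e1.trans (cj_self.2 hc.1), e.trans (cj_self.2 hc.2), fun x hx h =>
    exists_cj_of_le k1 ⟨hx, mem_centralizer_singleton_iff.2 h⟩⟩

/-- the element exchanging `z2` and `u2` -/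
structure Kp (ι : K →* G) (κ : G) : Prop where
  cz : Cj ι κ z1 z1
  cv : Cj ι κ v1 v1
  uz : Cj ι κ u2 z2
  zu : Cj ι κ z2 u2
  cu : Cj ι κ u1 (u1 * u2 * z2)

/-- the element exchanging `z2` and `v2` -/
structure Sg (ι : K →* G) (σ : G) : Prop where
  cz : Cj ι σ z1 z1
  cv : Cj ι σ v1 v1
  vz : Cj ι σ v2 z2
  zv : Cj ι σ z2 v2
  cu : Cj ι σ u1 u1

theorem AF.kap (d : AF ι) : ∃ κ, Kp ι κ := by
  obtain ⟨g, a⟩ := d.all (swap p4 none)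
  obtain ⟨-, -, q1, q2, q3, -⟩ := q_val
  obtain ⟨n, e1, e2, h⟩ := extr2 d.toMS ((a.e p1 p2).cg q1 q1) ((a.e p3 none).cg q3 q2)
  obtain ⟨-, -, -, -, -, m1, m2, m3, -, -, m4⟩ := mem_AB
  have hn := wc' d.toMS (i := 1) fun x hx =>
    (h x (E_le_S _ _ x hx) (E_comm _ _ x hx _ m3)).imp fun _ r => r.2
  obtain ⟨b, hb, eb⟩ := h v1 mem_S'.2.1 (by decide +kernel)
  obtain ⟨c, hc, ec⟩ := exists_cj_of_norm hn m1
  obtain ⟨a, ha, ea⟩ := exists_cj_of_norm hn m2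
  obtain ⟨k, k1, k2, k3, k4, k5⟩ := kap_fact b hb ((d.s2 eb).1 ty.2.2.2.2.1)
    (fun r => m4 (eb.symm.mem_of_norm d.inj (inv_mem hn) r)) ((d.s2 (eb.mul e1)).1 ty'.1) c hc
    ((d.s2 ec).1 ty.2.1) ((d.s4 (ec.mul e1)).1 ty'.2.1)
    (fun r => absurd ((ec.eq_iff d.inj e2).2 r) (by decide +kernel)) a ha
    ((d.s2 (ea.mul e1)).1 ty'.2.2.1) ((d.s2 (ea.mul e2)).1 ty'.2.2.2.1)
    ((d.s4 (ea.mul ec)).1 ty'.2.2.2.2) ((d.s2 ea).1 ty.2.2.1)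
  exact ⟨_, e1.trans (Cj.of' k1), eb.trans (Cj.of' k3), e2.trans (Cj.of' k2), ec.trans (Cj.of' k4),
    ea.trans (Cj.of' k5)⟩

theorem AF.sig (d : AF ι) : ∃ σ, Sg ι σ := by
  obtain ⟨g, e⟩ := d.fc
  obtain ⟨m1, m2, m3, m4, -⟩ := mem_AB
  obtain ⟨g, -, e, h⟩ := d.extr z_comm (mem_top g) e
  have hg := wc' d.toMS (i := 0) fun x hx => h x (E_comm _ _ x hx _ (mul_mem m1 m4))
  obtain ⟨a, ha, ea⟩ := exists_cj_of_norm hg m1
  obtain ⟨b, hb, eb⟩ := exists_cj_of_norm hg m4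
  obtain ⟨k, k1, k2⟩ := split_z a ha ((d.s2 ea).1 ty.1) b hb ((d.s2 eb).1 ty.2.2.2.2.2.1)
    (((ea.mul eb).eq_iff d.inj e).1 rfl)
  obtain ⟨n, e1, e2, h⟩ := extr2 d.toMS (ea.trans (Cj.of' k1)) (eb.trans (Cj.of' k2))
  have hn := wc' d.toMS (i := 0) fun x hx =>
    (h x (E_le_S _ _ x hx) (E_comm _ _ x hx _ m4)).imp fun _ r => r.2
  obtain ⟨a, ha, ea⟩ := h u1 mem_S'.2.2.2.1 (by decide +kernel)
  obtain ⟨c, hc, ec⟩ := exists_cj_of_norm hn m2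
  obtain ⟨b, hb, eb⟩ := exists_cj_of_norm hn m3
  obtain ⟨k, k1, k2, k3, k4, k5⟩ := sig_fact c hc ((d.s2 ec).1 ty.2.1) ((d.s4 (ec.mul e1)).1 ty'.2.1)
    (fun r => absurd ((ec.eq_iff d.inj e2).2 r) (by decide +kernel)) b hb ((d.s2 eb).1 ty.2.2.2.2.1)
    ((d.s2 (eb.mul e1)).1 ty'.1) a ha ((d.s2 ea).1 ty.2.2.1)
    ((ea.comm d.inj ec).1 (by decide +kernel)) (mt (ea.comm d.inj eb).2 (by decide +kernel))
  exact ⟨_, e1.trans (Cj.of' k1), eb.trans (Cj.of' k3), e2.trans (Cj.of' k2), ec.trans (Cj.of' k4),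
    ea.trans (Cj.of' k5)⟩

theorem Kp.pm (k : Kp ι κ) : Pm ι κ (swap p4 none) := fun p => by
  rcases (by decide : ∀ r : P5, r = none ∨ r = p1 ∨ r = p2 ∨ r = p3 ∨ r = p4) p with
    rfl | rfl | rfl | rfl | rfl
  exacts [(k.cz.mul k.zu).cg (by decide +kernel) (by decide +kernel),
    ((k.cz.mul k.zu).mul k.cu).cg (by decide +kernel) (by decide +kernel),
    (k.cu.mul k.zu).cg (by decide +kernel) (by decide +kernel),
    ((k.cz.mul k.zu).mul k.uz).cg (by decide +kernel) (by decide +kernel),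
    (k.cz.mul k.uz).cg (by decide +kernel) (by decide +kernel)]

/-- fusion in a subgroup -/
def Fm (ι : K →* G) (M : Subgroup G) (x y : K) : Prop := ∃ m ∈ M, Cj ι m x y

theorem Fm.trans {w : K} (a : Fm ι M x y) (b : Fm ι M y w) : Fm ι M x w :=
  let ⟨_, hm, e⟩ := a; let ⟨_, hn, e'⟩ := b; ⟨_, mul_mem hn hm, e.trans e'⟩

theorem fm_of (hM : ι.range ≤ M) {k : K} (e : k * x * k⁻¹ = y) : Fm ι M x y :=
  ⟨_, hM ⟨k, rfl⟩, Cj.of' e⟩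

theorem fm2 (hM : ι.range ≤ M) (k : Kp ι κ) (hk : κ ∈ M) (s : Sg ι σ) (hs : σ ∈ M) (h : t2 x) :
    Fm ι M x z1 := by
  have h1 : Fm ι M z2 z1 := fm_of hM t_act.2.1
  have h2 : Fm ι M u2 z1 := Fm.trans ⟨_, hk, k.uz⟩ h1
  obtain ⟨m, r | r | r | r⟩ := cls2 x h
  exacts [fm_of hM r, (fm_of hM r).trans (Fm.trans ⟨_, hs, s.vz⟩ h1), (fm_of hM r).trans h2,
    (fm_of hM r).trans (Fm.trans ⟨_, inv_mem hk, k.cu.symm⟩ ((fm_of hM t_act.2.2.1).trans h2))]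

theorem AF.fm4 (d : AF ι) (hM : ι.range ≤ M) (k : Kp ι κ) (hk : κ ∈ M) (s : Sg ι σ) (hs : σ ∈ M)
    (h : t4 x) : Fm ι M x kz := by
  have h1 : Fm ι M (z1 * v2) kz := ⟨_, hs, (s.cz.mul s.vz).cg rfl zz12⟩
  have h2 : Fm ι M (z1 * u2) kz := ⟨_, hk, (k.cz.mul k.uz).cg rfl zz12⟩
  have key : ∀ x, t4 x → x ∈ kS → Fm ι M x kz := fun x h hx => by
    obtain ⟨m, r | r | r | r | r⟩ := cls4 x h hx
    exacts [fm_of hM r, (fm_of hM r).trans h1, (fm_of hM r).trans h2,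
      (fm_of hM r).trans (Fm.trans ⟨_, hs, s.cv.mul s.vz⟩ ((fm_of hM t_act.2.2.2.2.2.2.1).trans h1)),
      (fm_of hM r).trans (Fm.trans ⟨_, hs, s.cu.mul s.vz⟩ ((fm_of hM t_act.2.2.2.2.2.2.2.1).trans h2))]
  by_cases hx : x ∈ kS
  · exact key x h hx
  obtain ⟨m, r⟩ := cls4' x h hx
  obtain ⟨n, hn, a⟩ := pm_all hM hk (by decide) k.pm (swap p2 p3)
  have h3 : n * ι kt * n⁻¹ ∈ 𝐜[ι z1] :=
    cj_self.1 ((((a.mul pm_t).mul a.inv).e p1 p2).cg q_val.2.2.1 q_val.2.2.2.2.2.2.2)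
  obtain ⟨c, hc, h4⟩ := ((sylS d.toMS).mono (le_inf (sylS d.toMS).le ((map_le_range ι _).trans hM))
    inf_le_left).exists_cj_le (isPGroup_zpowers ⟨1, by
      rw [pow_one, sq, conj_mul, ← map_mul, (t4_sq _ ty.2.2.2.2.2.2.2).1, map_one, mul_one,
        mul_inv_cancel]⟩) (zpowers_le.2 (mem_inf.2 ⟨h3, mul_mem (mul_mem hn (hM ⟨_, rfl⟩)) (inv_mem hn)⟩))
  obtain ⟨y, hy, e⟩ := h4 (conj_mem_cj c (mem_zpowers _))
  have e' : Cj ι (c * n) kt y := by rw [Cj, e]; group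
  exact (fm_of hM r).trans (Fm.trans ⟨_, mul_mem hc.2 hn, e'⟩
    (key y ((d.s4 e').1 ty.2.2.2.2.2.2.2) hy))

/-- an element of `B` conjugate to an element of `A` -/
theorem toAB (d : MS ι ⊤) {R : Subgroup G} (hR : IsSyl 2 R H) (h1 : R ≤ ι.range) (hA : kA.map ι ≤ H)
    (hB : kB.map ι ≤ H) (hg : g ∈ H) (hx : x ∈ kB) (hy : y ∈ kA) (e : Cj ι g x y) :
    ∃ k ∈ H, ∃ w ∈ kA, w ∈ kB ∧ Cj ι k y w := by
  obtain ⟨T, hT, k1⟩ := exists_isSyl_ge (L := H ⊓ 𝐜[ι y]) (d.pg kA)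
    (le_inf hA (map_le_c fun u hu => E_comm _ _ u hu y hy))
  obtain ⟨c, hc, k2⟩ := hT.exists_cj_le (isPGroup_cj g (d.pg kB))
    (le_inf (cj_le_of_mem hB hg) (e.cent ▸ cj_mono g (B_le_c ι hx)))
  obtain ⟨k, hk, k3⟩ := hR.exists_cj_le hT.pgrp (hT.le.trans inf_le_left)
  have k4 := wc d (((cj_mono k k1).trans k3).trans h1)
  have k5 : k * (c * g) ∈ 𝐍[kB.map ι] := wc d (by
    rw [cj_mul, cj_mul]; exact ((cj_mono k k2).trans k3).trans h1)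
  obtain ⟨w, hw, e1⟩ := exists_cj_of_norm k4 hy
  exact ⟨k, hk, w, hw, ((e.trans (cj_self.2 hc.2)).trans e1).mem_of_norm d.inj k5 hx, e1⟩

end Cfsg.Agent.LyS
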